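import Mathlib.RingTheory.Regular.Flat
import Mathlib.RingTheory.Flat.FaithfullyFlat.Algebra
import Mathlib.RingTheory.LocalProperties.Basic
import Mathlib.RingTheory.Noetherian.Basic
import Mathlib.RingTheory.RingHom.Flat
import Mathlib.RingTheory.RingHom.FaithfullyFlat
import Mathlib.RingTheory.Localization.AtPrime.Basic

/-!
# Weakly regular sequences: descent, locality, openness
-/

set_option autoImplicit false
set_option linter.style.haveILetI false
universe u

open RingTheory.Sequence

namespace Groth.Agent.H69.RegLim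

variable {A B : Type u} [CommRing A] [CommRing B]

/-- Weak regularity of a sequence in the ring itself. -/
abbrev W (A : Type u) [CommRing A] (rs : List A) : Prop := IsWeaklyRegular A rs

theorem w_iff (rs : List A) :
    W A rs ↔ ∀ (i : ℕ) (h : i < rs.length) (x : A), rs[i] * x ∈ Ideal.ofList (rs.take i) →
      x ∈ Ideal.ofList (rs.take i) := by
  rw [W, isWeaklyRegular_iff]
  refine forall_congr' fun i => forall_congr' fun h => ?_
  rw [isSMulRegular_quotient_iff_mem_of_smul_mem]
  simp only [smul_eq_mul, Ideal.mul_top]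

theorem map_take (φ : A →+* B) (rs : List A) (i : ℕ) :
    Ideal.ofList ((rs.map φ).take i) = (Ideal.ofList (rs.take i)).map φ := by
  rw [← List.map_take, Ideal.map_ofList]

/-- Weak regularity descends along faithfully flat maps. -/
theorem w_of_faithfullyFlat (φ : A →+* B) (hφ : φ.FaithfullyFlat) (rs : List A)
    (h : W B (rs.map φ)) : W A rs := by
  letI := φ.toAlgebra
  haveI : Module.FaithfullyFlat A B := hφ
  rw [w_iff] at h ⊢
  intro i hi x hx
  have h1 := h i (by simpa using hi) (φ x) (by
    rw [map_take, List.getElem_map, ← map_mul]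
    exact Ideal.mem_map_of_mem φ hx)
  rw [map_take] at h1
  rw [← Ideal.comap_map_eq_self_of_faithfullyFlat (B := B) (Ideal.ofList (rs.take i))]
  exact h1

/-- Weak regularity ascends along flat maps. -/
theorem w_of_flat (φ : A →+* B) (hφ : φ.Flat) (rs : List A) (h : W A rs) : W B (rs.map φ) := by
  letI := φ.toAlgebra
  haveI : Module.Flat A B := hφ
  exact IsWeaklyRegular.of_flat h

/-- Weak regularity can be checked at the maximal ideals. -/
theorem w_of_localization (rs : List A)
    (h : ∀ (p : Ideal A) [p.IsMaximal], W (Localization.AtPrime p) (rs.map (algebraMap A _))) :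
    W A rs := by
  rw [w_iff]
  intro i hi x hx
  refine Ideal.mem_of_localization_maximal fun p hp => ?_
  haveI := hp
  have h1 := (w_iff _).1 (h p) i (by simpa using hi) (algebraMap A _ x) (by
    rw [map_take, List.getElem_map, ← map_mul]
    exact Ideal.mem_map_of_mem _ hx)
  rw [map_take] at h1
  exact h1

/-- The transporter ideal of the `i`-th element. -/
def tr (rs : List A) (i : ℕ) : Ideal A where
  carrier := {x | ∀ h : i < rs.length, rs[i] * x ∈ Ideal.ofList (rs.take i)}
  add_mem' := fun ha hb h => by rw [mul_add]; exact add_mem (ha h) (hb h)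
  zero_mem' := fun h => by rw [mul_zero]; exact zero_mem _
  smul_mem' := fun c x hx h => by rw [smul_eq_mul, mul_left_comm]; exact Ideal.mul_mem_left _ c (hx h)

/-- On a Noetherian ring weak regularity at a prime spreads out. -/
theorem exists_nhd [IsNoetherianRing A] (rs : List A) (p : Ideal A) [p.IsPrime]
    (h : W (Localization.AtPrime p) (rs.map (algebraMap A _))) :
    ∃ g ∉ p, ∀ (q : Ideal A) [q.IsPrime], g ∉ q →
      W (Localization.AtPrime q) (rs.map (algebraMap A _)) := by
  classical
  have hi : ∀ i, ∃ g ∉ p, ∀ x ∈ tr rs i, i < rs.length → g * x ∈ Ideal.ofList (rs.take i) := by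
    intro i
    by_cases hlt : i < rs.length
    · obtain ⟨s, hs⟩ := IsNoetherian.noetherian (tr rs i)
      have hx : ∀ x ∈ tr rs i, ∃ g ∉ p, g * x ∈ Ideal.ofList (rs.take i) := by
        intro x hx
        have h1 := (w_iff _).1 h i (by simpa using hlt) (algebraMap A _ x) (by
          rw [map_take, List.getElem_map, ← map_mul]
          exact Ideal.mem_map_of_mem _ (hx hlt))
        rw [map_take, IsLocalization.algebraMap_mem_map_algebraMap_iff p.primeCompl] at h1
        obtain ⟨g, hg, hgx⟩ := h1
        exact ⟨g, hg, hgx⟩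
      choose g hg hgx using hx
      have hmem : ∀ x ∈ s, x ∈ tr rs i := fun x hx => hs ▸ Submodule.subset_span hx
      refine ⟨∏ x ∈ s.attach, g x.1 (hmem x.1 x.2), fun hp => ?_, fun x hx _ => ?_⟩
      · obtain ⟨y, -, hy⟩ := (Ideal.IsPrime.prod_mem_iff (p := p)).1 hp
        exact hg _ _ hy
      · rw [← hs] at hx
        induction hx using Submodule.span_induction with
        | mem y hy =>
          rw [← Finset.mul_prod_erase _ _ (Finset.mem_attach s ⟨y, hy⟩), mul_right_comm]
          exact Ideal.mul_mem_right _ _ (hgx y (hmem y hy))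
        | zero => rw [mul_zero]; exact zero_mem _
        | add a b _ _ ha hb => rw [mul_add]; exact add_mem ha hb
        | smul c a _ ha => rw [smul_eq_mul, mul_left_comm]; exact Ideal.mul_mem_left _ c ha
    · exact ⟨1, p.primeCompl.one_mem, fun _ _ h => absurd h hlt⟩
  choose g hg hgi using hi
  refine ⟨∏ i ∈ Finset.range rs.length, g i, fun hp => ?_, fun q _ hq => ?_⟩
  · obtain ⟨i, -, hi⟩ := (Ideal.IsPrime.prod_mem_iff (p := p)).1 hp
    exact hg i hi
  rw [w_iff]
  intro i hlen x hx
  rw [List.length_map] at hlen
  obtain ⟨a, s, rfl⟩ := IsLocalization.exists_mk'_eq q.primeCompl x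
  rw [map_take, List.getElem_map] at hx
  have h2 : algebraMap A (Localization.AtPrime q) (rs[i] * a) ∈
      (Ideal.ofList (rs.take i)).map (algebraMap A (Localization.AtPrime q)) := by
    have h3 := Ideal.mul_mem_right (algebraMap A (Localization.AtPrime q) (s : A)) _ hx
    rwa [mul_assoc, IsLocalization.mk'_spec, ← map_mul] at h3
  rw [IsLocalization.algebraMap_mem_map_algebraMap_iff q.primeCompl] at h2
  obtain ⟨t, ht, hta⟩ := h2
  have h4 : t * a ∈ tr rs i := fun _ => by rw [mul_left_comm]; exact hta
  have h5 := hgi i _ h4 hlen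
  have hgq : g i ∉ q := fun hmem => hq (Ideal.prod_mem _ (Finset.mem_range.2 hlen) hmem)
  rw [map_take, IsLocalization.mk'_mem_map_algebraMap_iff q.primeCompl]
  refine ⟨g i * t, q.primeCompl.mul_mem hgq ht, ?_⟩
  rw [mul_assoc]
  exact h5

end Groth.Agent.H69.RegLim
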