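import Groth.Agent.H69.RegLim.Ring
import Groth.Agent.Lib.LimTop.Affine
import Groth.Agent.Lib.LimTop.Points
import Mathlib.AlgebraicGeometry.AffineTransitionLimit
import Mathlib.AlgebraicGeometry.Noetherian

/-!
# Regular sequences of global sections along flat limits
-/

set_option autoImplicit false
set_option linter.style.haveILetI false
set_option backward.isDefEq.respectTransparency false
universe u

open CategoryTheory CategoryTheory.Limits AlgebraicGeometry TopologicalSpace Opposite

namespace Groth.Agent.H69.RegLim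

open Groth.Agent.Lib

variable {X Y : Scheme.{u}}

/-- The germs of a list of global sections. -/
noncomputable def germs (fs : List Γ(X, ⊤)) (x : X) : List (X.presheaf.stalk x) :=
  fs.map fun f => X.presheaf.germ ⊤ x trivial f

/-- The points at which the germs form a weakly regular sequence. -/
def regLocus (fs : List Γ(X, ⊤)) : Set X := {x | W (X.presheaf.stalk x) (germs fs x)}

/-- The restrictions of global sections. -/
noncomputable def res (fs : List Γ(X, ⊤)) (U : X.Opens) : List Γ(X, U) :=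
  fs.map fun f => (X.presheaf.map (homOfLE (le_top : U ≤ ⊤)).op).hom f

theorem germs_res (fs : List Γ(X, ⊤)) {U : X.Opens} {x : X} (hx : x ∈ U) :
    (res fs U).map (X.presheaf.germ U x hx).hom = germs fs x := by
  simp only [res, germs, List.map_map]
  exact List.map_congr_left fun f _ => TopCat.Presheaf.germ_res_apply _ _ _ _ _

theorem w_map_equiv {A B : Type u} [CommRing A] [CommRing B] (e : A ≃+* B) {rs : List A}
    {rs' : List B} (h : rs.map e.toRingHom = rs') (hw : W A rs) : W B rs' :=
  h ▸ w_of_flat e.toRingHom (RingHom.Flat.of_bijective e.bijective) rs hw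

theorem mem_regLocus_of_localization (fs : List Γ(X, ⊤)) {U : X.Opens} (hU : IsAffineOpen U) (x : U)
    (h : W (Localization.AtPrime (hU.primeIdealOf x).asIdeal)
      ((res fs U).map (algebraMap Γ(X, U) _))) : x.1 ∈ regLocus fs := by
  letI := X.presheaf.algebra_section_stalk x
  haveI := hU.isLocalization_stalk x
  let p := (hU.primeIdealOf x).asIdeal
  let e := IsLocalization.algEquiv p.primeCompl (Localization.AtPrime p) (X.presheaf.stalk x.1)
  refine w_map_equiv e.toRingEquiv ?_ h
  rw [List.map_map, ← germs_res fs x.2]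
  exact List.map_congr_left fun f _ => e.commutes f

theorem localization_of_mem_regLocus (fs : List Γ(X, ⊤)) {U : X.Opens} (hU : IsAffineOpen U) (x : U)
    (h : x.1 ∈ regLocus fs) : W (Localization.AtPrime (hU.primeIdealOf x).asIdeal)
      ((res fs U).map (algebraMap Γ(X, U) _)) := by
  letI := X.presheaf.algebra_section_stalk x
  haveI := hU.isLocalization_stalk x
  let p := (hU.primeIdealOf x).asIdeal
  let e := IsLocalization.algEquiv p.primeCompl (X.presheaf.stalk x.1) (Localization.AtPrime p)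
  refine w_map_equiv e.toRingEquiv ?_ h
  rw [← germs_res fs x.2, List.map_map]
  exact List.map_congr_left fun f _ => e.commutes f

/-- Weak regularity on all affine opens is regularity at all points. -/
theorem forall_affine_iff (fs : List Γ(X, ⊤)) :
    (∀ U : X.affineOpens, W Γ(X, U.1) (res fs U.1)) ↔ regLocus fs = Set.univ := by
  constructor
  · intro h
    refine Set.eq_univ_iff_forall.2 fun x => ?_
    obtain ⟨_, ⟨U, hU, rfl⟩, hxU, -⟩ :=
      X.isBasis_affineOpens.exists_subset_of_mem_open (Set.mem_univ x) isOpen_univ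
    letI := X.presheaf.algebra_section_stalk ⟨x, hxU⟩
    haveI := IsAffineOpen.isLocalization_stalk hU ⟨x, hxU⟩
    have hfl : (algebraMap Γ(X, U) (X.presheaf.stalk x)).Flat :=
      RingHom.flat_algebraMap_iff.2 (IsLocalization.flat _ ((IsAffineOpen.primeIdealOf hU ⟨x, hxU⟩).asIdeal.primeCompl))
    have := w_of_flat _ hfl _ (h ⟨U, hU⟩)
    show W _ _
    rw [← germs_res fs hxU]
    exact this
  · intro h U
    refine w_of_localization _ fun p hp => ?_
    let y : PrimeSpectrum Γ(X, U.1) := ⟨p, hp.isPrime⟩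
    have hy : U.2.fromSpec y ∈ U.1 := (U.2.opensRange_fromSpec).le ⟨y, rfl⟩
    let x : U.1 := ⟨U.2.fromSpec y, hy⟩
    have hx : U.2.primeIdealOf x = y :=
      U.2.fromSpec.isOpenEmbedding.injective (U.2.fromSpec_primeIdealOf x)
    have := localization_of_mem_regLocus fs U.2 x (h ▸ Set.mem_univ _)
    rw [hx] at this
    exact this

/-- Flat morphisms preserve and reflect regularity at points. -/
theorem regLocus_pullback (g : Y ⟶ X) [Flat g] (fs : List Γ(X, ⊤)) :
    regLocus (fs.map fun f => g.appTop.hom f) = g ⁻¹' regLocus fs := by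
  ext y
  have hg : germs (fs.map fun f => g.appTop.hom f) y = (germs fs (g y)).map (g.stalkMap y).hom := by
    simp only [germs, List.map_map]
    exact List.map_congr_left fun f _ => (Scheme.Hom.germ_stalkMap_apply g ⊤ y trivial f).symm
  have hfl : (g.stalkMap y).hom.Flat := Flat.stalkMap g y
  show W _ _ ↔ W _ _
  rw [hg]
  refine ⟨fun h => w_of_faithfullyFlat _ ?_ _ h, fun h => w_of_flat _ hfl _ h⟩
  algebraize [(g.stalkMap y).hom]
  exact @Module.FaithfullyFlat.of_flat_of_isLocalHom _ _ _ _ _ _ _ hfl (g.toLRSHom.prop y)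

/-- On a locally Noetherian scheme the regular locus is open. -/
theorem isOpen_regLocus [IsLocallyNoetherian X] (fs : List Γ(X, ⊤)) : IsOpen (regLocus fs) := by
  refine isOpen_iff_forall_mem_open.2 fun x hx => ?_
  obtain ⟨_, ⟨U, hU, rfl⟩, hxU, -⟩ :=
    X.isBasis_affineOpens.exists_subset_of_mem_open (Set.mem_univ x) isOpen_univ
  haveI : IsNoetherianRing Γ(X, U) := IsLocallyNoetherian.component_noetherian ⟨U, hU⟩
  obtain ⟨g, hg, hgq⟩ := exists_nhd (res fs U) _ (localization_of_mem_regLocus fs hU ⟨x, hxU⟩ hx)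
  have hmem : ∀ y : U, y.1 ∈ X.basicOpen g ↔ g ∉ (IsAffineOpen.primeIdealOf hU y).asIdeal := by
    intro y
    rw [X.mem_basicOpen g y.1 y.2]
    letI := X.presheaf.algebra_section_stalk y
    haveI := IsAffineOpen.isLocalization_stalk hU y
    exact IsLocalization.AtPrime.isUnit_to_map_iff (X.presheaf.stalk y.1)
      (IsAffineOpen.primeIdealOf hU y).asIdeal g
  refine ⟨X.basicOpen g, fun y hy => ?_, (X.basicOpen g).2, (hmem ⟨x, hxU⟩).2 hg⟩
  have hyU : y ∈ U := X.basicOpen_le g hy
  exact mem_regLocus_of_localization fs hU ⟨y, hyU⟩ (hgq _ ((hmem ⟨y, hyU⟩).1 hy))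

variable {I : Type u} [SmallCategory I] [IsCofiltered I] {D : I ⥤ Scheme.{u}} {c : Cone D}
  [∀ (i j : I) (f : i ⟶ j), IsAffineHom (D.map f)]

/-- An open containing the image of the limit contains the image of a stage. -/
theorem exists_stage_subset (hc : IsLimit c) (i₀ : I) [CompactSpace (D.obj i₀)] (U : (D.obj i₀).Opens)
    (hU : c.π.app i₀ ⁻¹ᵁ U = ⊤) : ∃ (j : I) (φ : j ⟶ i₀), D.map φ ⁻¹ᵁ U = ⊤ := by
  haveI : ∀ {i j : I} (f : i ⟶ j), IsAffineHom (D.map f) := fun f => inferInstance
  let D' := Over.forget i₀ ⋙ D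
  let c' : Cone D' := c.whisker (Over.forget i₀)
  have hc' : IsLimit c' := (Functor.Initial.isLimitWhiskerEquiv (Over.forget i₀) c).symm hc
  haveI : ∀ {i j : Over i₀} (f : i ⟶ j), IsAffineHom (D'.map f) := fun f =>
    inferInstanceAs (IsAffineHom (D.map f.left))
  haveI : ∀ i, CompactSpace (D'.obj i) := fun i => QuasiCompact.compactSpace_of_compactSpace (D.map i.hom)
  obtain ⟨j, f, hj⟩ := exists_map_eq_top D' c' hc' (i := Over.mk (𝟙 i₀)) U hU
  exact ⟨j.left, f.left, hj⟩

/-- Regular sequences along flat limits. -/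
theorem regular_iff_stage (hc : IsLimit c) (hflat : ∀ (i j : I) (f : i ⟶ j), Flat (D.map f))
    (hcase : (∀ i : I, IsLocallyNoetherian (D.obj i)) ∨
      ∀ (i j : I) (f : i ⟶ j), Surjective (D.map f))
    (i₀ : I) [CompactSpace (D.obj i₀)] (fs : List Γ(D.obj i₀, ⊤)) :
    (∀ U : c.pt.affineOpens, W Γ(c.pt, U.1)
        (res (fs.map fun f => (c.π.app i₀).appTop.hom f) U.1)) ↔
      ∃ (j : I) (φ : j ⟶ i₀), ∀ U : (D.obj j).affineOpens, W Γ(D.obj j, U.1)
        (res (fs.map fun f => (D.map φ).appTop.hom f) U.1) := by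
  haveI : ∀ {i j : I} (f : i ⟶ j), IsAffineHom (D.map f) := fun f => inferInstance
  haveI : Flat (c.π.app i₀) := LimTop.Affine.flat_π hc i₀ fun j φ => hflat j i₀ φ
  have key : ∀ (j : I) (φ : j ⟶ i₀), (∀ U : (D.obj j).affineOpens, W Γ(D.obj j, U.1)
      (res (fs.map fun f => (D.map φ).appTop.hom f) U.1)) ↔ Set.range (D.map φ) ⊆ regLocus fs := by
    intro j φ
    haveI := hflat j i₀ φ
    rw [forall_affine_iff, regLocus_pullback, Set.preimage_eq_univ_iff]
  rw [forall_affine_iff]
  erw [regLocus_pullback (c.π.app i₀) fs]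
  erw [Set.preimage_eq_univ_iff]
  constructor
  · intro h
    rcases hcase with hN | hS
    · haveI := hN i₀
      let U : (D.obj i₀).Opens := ⟨regLocus fs, isOpen_regLocus fs⟩
      obtain ⟨j, φ, hj⟩ := exists_stage_subset hc i₀ U
        (eq_top_iff.2 fun x _ => h ⟨x, rfl⟩)
      refine ⟨j, φ, (key j φ).2 ?_⟩
      rintro _ ⟨y, rfl⟩
      exact (hj.ge (Opens.mem_top y) :)
    · refine ⟨i₀, 𝟙 i₀, (key i₀ (𝟙 i₀)).2 fun x _ => h ?_⟩
      rw [LimTop.Points.range_π hc i₀]
      exact Set.mem_iInter₂.2 fun j φ => (hS j i₀ φ).surj x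
  · rintro ⟨j, φ, hj⟩
    refine fun x hx => (key j φ).1 hj ?_
    obtain ⟨s, rfl⟩ := hx
    exact ⟨c.π.app j s, by rw [← Scheme.Hom.comp_apply, c.w]; rfl⟩

end Groth.Agent.H69.RegLim
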